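import Mathlib

/-!
# Modular representations: basic vocabulary for S4504 (helper79)

`Stable ρ X`, `subRep`, `Indec ρ` (indecomposable representation), `IndecSub ρ X`
(indecomposable stable subspace of an ambient representation) and `b3 D X`, the number of Jordan
blocks of size exactly three of a nilpotent endomorphism `D` on a `D`-stable subspace `X`.
-/

set_option autoImplicit false

namespace Cfsg.Agent.Lib.Helper79.ModP

variable {F G V : Type*} [Field F] [Group G] [AddCommGroup V] [Module F V]

/-- `X` is stable under every `ρ g`. -/
def Stable (ρ : Representation F G V) (X : Submodule F V) : Prop :=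
  ∀ g : G, ∀ v ∈ X, ρ g v ∈ X

theorem stable_bot (ρ : Representation F G V) : Stable ρ (⊥ : Submodule F V) := by
  intro g v hv
  rw [Submodule.mem_bot] at hv
  rw [hv, map_zero]
  exact Submodule.zero_mem _

theorem stable_top (ρ : Representation F G V) : Stable ρ (⊤ : Submodule F V) :=
  fun _ _ _ => Submodule.mem_top

theorem Stable.sup {ρ : Representation F G V} {A B : Submodule F V} (hA : Stable ρ A)
    (hB : Stable ρ B) : Stable ρ (A ⊔ B) := by
  intro g v hv
  obtain ⟨a, ha, b, hb, rfl⟩ := Submodule.mem_sup.mp hv
  rw [map_add]
  exact Submodule.add_mem _ (Submodule.mem_sup_left (hA g a ha)) (Submodule.mem_sup_right (hB g b hb))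

theorem Stable.inf {ρ : Representation F G V} {A B : Submodule F V} (hA : Stable ρ A)
    (hB : Stable ρ B) : Stable ρ (A ⊓ B) := by
  intro g v hv
  exact ⟨hA g v hv.1, hB g v hv.2⟩

/-- The representation on a stable subspace. -/
def subRep (ρ : Representation F G V) (X : Submodule F V) (hX : Stable ρ X) :
    Representation F G X where
  toFun g := (ρ g).restrict (hX g)
  map_one' := by
    ext v
    simp
  map_mul' a b := by
    ext v
    simp

@[simp]
theorem subRep_apply_coe (ρ : Representation F G V) (X : Submodule F V) (hX : Stable ρ X) (g : G)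
    (v : X) : ((subRep ρ X hX g v : X) : V) = ρ g (v : V) := rfl

/-- `ρ` is an indecomposable representation (on the whole of `V`). -/
def Indec (ρ : Representation F G V) : Prop :=
  Nontrivial V ∧ ∀ A B : Submodule F V, Stable ρ A → Stable ρ B → IsCompl A B → A = ⊥ ∨ B = ⊥

/-- `X` is an indecomposable stable subspace of `ρ`. -/
def IndecSub (ρ : Representation F G V) (X : Submodule F V) : Prop :=
  X ≠ ⊥ ∧ ∀ A B : Submodule F V, Stable ρ A → Stable ρ B → Disjoint A B → A ⊔ B = X →
    A = ⊥ ∨ B = ⊥

theorem stable_map_subtype {ρ : Representation F G V} {X : Submodule F V} (hX : Stable ρ X)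
    {A : Submodule F X} (hA : Stable (subRep ρ X hX) A) : Stable ρ (A.map X.subtype) := by
  intro g v hv
  obtain ⟨a, ha, rfl⟩ := Submodule.mem_map.mp hv
  exact Submodule.mem_map.mpr ⟨subRep ρ X hX g a, hA g a ha, rfl⟩

theorem stable_comap_subtype {ρ : Representation F G V} {X : Submodule F V} (hX : Stable ρ X)
    {A : Submodule F V} (hA : Stable ρ A) : Stable (subRep ρ X hX) (A.comap X.subtype) := by
  intro g v hv
  exact hA g _ hv

/-- Bridge between the two notions of indecomposability. -/
theorem indec_subRep_iff {ρ : Representation F G V} {X : Submodule F V} (hX : Stable ρ X) :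
    Indec (subRep ρ X hX) ↔ IndecSub ρ X := by
  constructor
  · rintro ⟨hnt, h⟩
    refine ⟨?_, ?_⟩
    · intro hbot
      have : Subsingleton X := by
        rw [hbot]
        infer_instance
      exact not_subsingleton X this
    · intro A B hA hB hdis hsup
      have hAX : A ≤ X := hsup ▸ le_sup_left
      have hBX : B ≤ X := hsup ▸ le_sup_right
      have hc : IsCompl (A.comap X.subtype) (B.comap X.subtype) := by
        constructor
        · rw [disjoint_iff, ← Submodule.comap_inf, disjoint_iff.mp hdis]
          simp
        · rw [codisjoint_iff, eq_top_iff]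
          intro v _
          have hv : (v : V) ∈ A ⊔ B := hsup ▸ v.2
          obtain ⟨a, ha, b, hb, hab⟩ := Submodule.mem_sup.mp hv
          refine Submodule.mem_sup.mpr ⟨⟨a, hAX ha⟩, ha, ⟨b, hBX hb⟩, hb, ?_⟩
          exact Subtype.ext hab
      rcases h _ _ (stable_comap_subtype hX hA) (stable_comap_subtype hX hB) hc with h1 | h1
      · left
        rw [eq_bot_iff]
        intro a ha
        have : (⟨a, hAX ha⟩ : X) ∈ A.comap X.subtype := ha
        rw [h1, Submodule.mem_bot] at this
        rw [Submodule.mem_bot]
        exact congrArg Subtype.val this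
      · right
        rw [eq_bot_iff]
        intro b hb
        have : (⟨b, hBX hb⟩ : X) ∈ B.comap X.subtype := hb
        rw [h1, Submodule.mem_bot] at this
        rw [Submodule.mem_bot]
        exact congrArg Subtype.val this
  · rintro ⟨hne, h⟩
    refine ⟨?_, ?_⟩
    · exact Submodule.nontrivial_iff_ne_bot.mpr hne
    · intro A B hA hB hc
      have hdis : Disjoint (A.map X.subtype) (B.map X.subtype) := by
        rw [disjoint_iff, ← Submodule.map_inf _ X.subtype_injective, disjoint_iff.mp hc.disjoint,
          Submodule.map_bot]
      have hsup : A.map X.subtype ⊔ B.map X.subtype = X := by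
        rw [← Submodule.map_sup, codisjoint_iff.mp hc.codisjoint, Submodule.map_top,
          Submodule.range_subtype]
      rcases h _ _ (stable_map_subtype hX hA) (stable_map_subtype hX hB) hdis hsup with h1 | h1
      · left
        exact Submodule.map_injective_of_injective X.subtype_injective (h1.trans (Submodule.map_bot _).symm)
      · right
        exact Submodule.map_injective_of_injective X.subtype_injective (h1.trans (Submodule.map_bot _).symm)

/-- `b3 D X`: for a `D`-stable subspace `X` on which `D` is nilpotent this is the number of Jordan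
blocks of size exactly `3` of `D` on `X`:
`dim (ker D ∩ D² X) - dim (ker D ∩ D³ X)`. -/
noncomputable def b3 (D : Module.End F V) (X : Submodule F V) : ℕ :=
  Module.finrank F ↥(LinearMap.ker D ⊓ X.map (D ^ 2)) -
    Module.finrank F ↥(LinearMap.ker D ⊓ X.map (D ^ 3))

end Cfsg.Agent.Lib.Helper79.ModP
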