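import Mathlib
import Cfsg.Agent.Lib.Helper79.ModP.Defs

/-!
# S4504: bridges between a stable subspace and its sub-representation (helper79)
-/

set_option autoImplicit false

namespace Cfsg.Agent.Lib.Helper79.ModP

variable {F G V : Type*} [Field F] [Group G] [AddCommGroup V] [Module F V]

theorem subRep_sub_one_pow_apply (ρ : Representation F G V) (X : Submodule F V) (hX : Stable ρ X)
    (x : G) (k : ℕ) (v : X) :
    ((((subRep ρ X hX x - 1) ^ k) v : X) : V) = ((ρ x - 1) ^ k) (v : V) := by
  induction k generalizing v with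
  | zero => simp
  | succ k ih =>
    rw [pow_succ, pow_succ, Module.End.mul_apply, Module.End.mul_apply, ih]
    congr 1

theorem subRep_sub_one_pow_eq_zero_iff (ρ : Representation F G V) (X : Submodule F V)
    (hX : Stable ρ X) (x : G) (k : ℕ) :
    (subRep ρ X hX x - 1) ^ k = 0 ↔ ∀ v ∈ X, ((ρ x - 1) ^ k) v = 0 := by
  constructor
  · intro h v hv
    have := subRep_sub_one_pow_apply ρ X hX x k ⟨v, hv⟩
    rw [h] at this
    exact this.symm
  · intro h
    ext v
    rw [subRep_sub_one_pow_apply]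
    exact h v v.2

/-- the kernel of `ρ_X x - 1` corresponds to `ker (ρ x - 1) ⊓ X` -/
noncomputable def kerEquiv (ρ : Representation F G V) (X : Submodule F V) (hX : Stable ρ X)
    (x : G) :
    ↥(LinearMap.ker (subRep ρ X hX x - 1)) ≃ₗ[F] ↥(LinearMap.ker (ρ x - 1) ⊓ X) where
  toFun v := ⟨((v : X) : V), by
    refine ⟨?_, (v : X).2⟩
    have h := v.2
    rw [LinearMap.mem_ker] at h
    show ((v : X) : V) ∈ LinearMap.ker (ρ x - 1)
    rw [LinearMap.mem_ker]
    have h2 := subRep_sub_one_pow_apply ρ X hX x 1 (v : X)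
    rw [pow_one, pow_one, h] at h2
    exact h2.symm⟩
  map_add' a b := rfl
  map_smul' c a := rfl
  invFun w := ⟨⟨(w : V), w.2.2⟩, by
    rw [LinearMap.mem_ker]
    apply Subtype.ext
    have h2 := subRep_sub_one_pow_apply ρ X hX x 1 ⟨(w : V), w.2.2⟩
    rw [pow_one, pow_one] at h2
    rw [h2]
    exact LinearMap.mem_ker.mp w.2.1⟩
  left_inv v := rfl
  right_inv w := rfl

theorem finrank_ker_subRep (ρ : Representation F G V) (X : Submodule F V) (hX : Stable ρ X)
    (x : G) :
    Module.finrank F ↥(LinearMap.ker (subRep ρ X hX x - 1)) =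
      Module.finrank F ↥(LinearMap.ker (ρ x - 1) ⊓ X) :=
  (kerEquiv ρ X hX x).finrank_eq

end Cfsg.Agent.Lib.Helper79.ModP
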