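import Mathlib
import Cfsg.Agent.Lib.Helper79.ModP.Defs
import Cfsg.Agent.Lib.Helper79.ModP.Bridge
import Cfsg.Agent.Lib.Helper46.S4504.Uniserial
import Cfsg.Agent.Lib.Helper50.S4504.BGreen

/-!
# S4504 [B-GU]: Green + uniserial, for indecomposable stable subspaces (helper79)
-/

set_option autoImplicit false

namespace Cfsg.Agent.Lib.Helper79.ModP


variable {F G V : Type*} [Field F] [Group G] [AddCommGroup V] [Module F V]

/-- **[B-GU]** on an indecomposable stable subspace on which `(x - 1)^(p-1)` vanishes, `x - 1` has a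
one-dimensional kernel. -/
theorem gu [IsAlgClosed F] [Finite G] [FiniteDimensional F V] {p : ℕ} [Fact p.Prime] [CharP F p]
    (P : Sylow p G) (hP : Nat.card P = p) (x : G) (hx : x ∈ (P : Subgroup G)) (hx1 : x ≠ 1)
    (hNab : ∀ a b : G, a ∈ Subgroup.normalizer ((P : Subgroup G) : Set G) →
      b ∈ Subgroup.normalizer ((P : Subgroup G) : Set G) → a * b * a⁻¹ * b⁻¹ ∈ (P : Subgroup G))
    (ρ : Representation F G V) (X : Submodule F V) (hX : Stable ρ X) (hind : IndecSub ρ X)
    (hnil : ∀ v ∈ X, ((ρ x - 1) ^ (p - 1)) v = 0) :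
    Module.finrank F ↥(LinearMap.ker (ρ x - 1) ⊓ X) = 1 := by
  have h1 : Indec (subRep ρ X hX) := (indec_subRep_iff hX).mpr hind
  have h2 : (subRep ρ X hX x - 1) ^ (p - 1) = 0 :=
    (subRep_sub_one_pow_eq_zero_iff ρ X hX x (p - 1)).mpr hnil
  have h3 := Cfsg.Agent.Lib.Helper50.S4504.green_indec P hP x hx hx1 (subRep ρ X hX) h1 h2
  -- the normalizer
  set N : Subgroup G := Subgroup.normalizer ((P : Subgroup G) : Set G) with hN
  have hPN : (P : Subgroup G) ≤ N := Subgroup.le_normalizer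
  let U : Subgroup N := (P : Subgroup G).subgroupOf N
  have hUn : U.Normal := Subgroup.normal_in_normalizer
  have hU : Nat.card U = p := by
    rw [← hP]
    exact Nat.card_congr (Subgroup.subgroupOfEquivOfLe hPN).toEquiv
  have hcop : ¬ p ∣ U.index := by
    intro hdvd
    have h4 : U.index ∣ (P : Subgroup G).index := Subgroup.relIndex_dvd_index_of_le hPN
    exact P.not_dvd_index (hdvd.trans h4)
  have h5 := Cfsg.Agent.Lib.Helper46.S4504.uniserial_of_indec U hU ⟨x, hPN hx⟩ (Subgroup.mem_subgroupOf.mpr hx)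
    (fun h => hx1 (congrArg Subtype.val h))
    (fun a b => Subgroup.mem_subgroupOf.mpr (hNab a b a.2 b.2)) hcop
    ((subRep ρ X hX).comp N.subtype) h3
  rw [← finrank_ker_subRep ρ X hX x]
  exact h5

end Cfsg.Agent.Lib.Helper79.ModP
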