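import Mathlib
import Cfsg.Agent.Lib.Helper79.ModP.Defs

/-!
# S4504 module [B-SPLIT]: indecomposable direct summands with a given property (helper79)
-/

set_option autoImplicit false

namespace Cfsg.Agent.Lib.Helper79.ModP

variable {F G V : Type*} [Field F] [Group G] [AddCommGroup V] [Module F V]

theorem exists_indecSub_summand_aux [FiniteDimensional F V] (ρ : Representation F G V)
    (Φ : Submodule F V → Prop) (hΦbot : ¬ Φ ⊥)
    (hΦ : ∀ A B : Submodule F V, Stable ρ A → Stable ρ B → Disjoint A B → Φ (A ⊔ B) → Φ A ∨ Φ B) :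
    ∀ (n : ℕ) (Y : Submodule F V), Module.finrank F ↥Y = n → Stable ρ Y → Φ Y →
    ∃ T T' : Submodule F V, Stable ρ T ∧ Stable ρ T' ∧ Disjoint T T' ∧ T ⊔ T' = Y ∧
      IndecSub ρ T ∧ Φ T := by
  intro n
  induction n using Nat.strong_induction_on with
  | _ n ih =>
  intro Y hn hY hΦY
  have hYne : Y ≠ ⊥ := by
    rintro rfl
    exact hΦbot hΦY
  by_cases hind : IndecSub ρ Y
  · exact ⟨Y, ⊥, hY, stable_bot ρ, disjoint_bot_right, sup_bot_eq Y, hind, hΦY⟩
  · unfold IndecSub at hind
    push Not at hind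
    obtain ⟨A, B, hA, hB, hdis, hsup, hAne, hBne⟩ := hind hYne
    have hfin : Module.finrank F ↥A + Module.finrank F ↥B = n := by
      have h1 := Submodule.finrank_sup_add_finrank_inf_eq A B
      rw [hsup, disjoint_iff.mp hdis, finrank_bot, add_zero, hn] at h1
      exact h1.symm
    have hApos : 0 < Module.finrank F ↥A := by
      apply Nat.pos_of_ne_zero
      intro h0
      exact hAne (Submodule.finrank_eq_zero.mp h0)
    have hBpos : 0 < Module.finrank F ↥B := by
      apply Nat.pos_of_ne_zero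
      intro h0
      exact hBne (Submodule.finrank_eq_zero.mp h0)
    rw [← hsup] at hΦY
    rcases hΦ A B hA hB hdis hΦY with hΦA | hΦB
    · obtain ⟨T, T'', hT, hT'', hd', hs', hTi, hΦT⟩ :=
        ih (Module.finrank F ↥A) (by omega) A rfl hA hΦA
      refine ⟨T, T'' ⊔ B, hT, hT''.sup hB, ?_, ?_, hTi, hΦT⟩
      · -- T ⊓ (T'' ⊔ B) = ⊥
        have h1 : Disjoint (T ⊔ T'') B := hs' ▸ hdis
        exact hd'.disjoint_sup_right_of_disjoint_sup_left h1
      · rw [← sup_assoc, hs', hsup]
    · obtain ⟨T, T'', hT, hT'', hd', hs', hTi, hΦT⟩ :=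
        ih (Module.finrank F ↥B) (by omega) B rfl hB hΦB
      refine ⟨T, T'' ⊔ A, hT, hT''.sup hA, ?_, ?_, hTi, hΦT⟩
      · have h1 : Disjoint (T ⊔ T'') A := hs' ▸ hdis.symm
        exact hd'.disjoint_sup_right_of_disjoint_sup_left h1
      · rw [← sup_assoc, hs', sup_comm, hsup]

/-- **[B-SPLIT]** a stable subspace with a property `Φ` that is inherited by one of the two
summands of every stable direct decomposition has an indecomposable direct summand with `Φ`. -/
theorem exists_indecSub_summand [FiniteDimensional F V] (ρ : Representation F G V)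
    (Φ : Submodule F V → Prop) (hΦbot : ¬ Φ ⊥)
    (hΦ : ∀ A B : Submodule F V, Stable ρ A → Stable ρ B → Disjoint A B → Φ (A ⊔ B) → Φ A ∨ Φ B)
    (Y : Submodule F V) (hY : Stable ρ Y) (hΦY : Φ Y) :
    ∃ T T' : Submodule F V, Stable ρ T ∧ Stable ρ T' ∧ Disjoint T T' ∧ T ⊔ T' = Y ∧
      IndecSub ρ T ∧ Φ T :=
  exists_indecSub_summand_aux ρ Φ hΦbot hΦ _ Y rfl hY hΦY

end Cfsg.Agent.Lib.Helper79.ModP
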