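import Mathlib
import Cfsg.Agent.Lib.Helper79.ModP.Defs
import Cfsg.Agent.Lib.Helper79.ModP.Bridge
import Cfsg.Agent.Lib.Helper79.ModP.Split
import Cfsg.Agent.Lib.Helper79.ModP.GU
import Cfsg.Agent.Lib.Helper73.S4504.Jordan

/-!
# S4504, Theorem B, stage 1: an indecomposable summand on which `x` is one Jordan block
(helper79)
-/

set_option autoImplicit false

namespace Cfsg.Agent.Lib.Helper79.ModP

open Polynomial

universe u

/-- the representation on `F^d` attached to a matrix representation -/
noncomputable def repOfMat {F G : Type*} [Field F] [Group G] {d : ℕ}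
    (τ : G →* Matrix (Fin d) (Fin d) F) : Representation F G (Fin d → F) :=
  ((Matrix.toLinAlgEquiv' : Matrix (Fin d) (Fin d) F ≃ₐ[F] Module.End F (Fin d → F)) :
    Matrix (Fin d) (Fin d) F →* Module.End F (Fin d → F)).comp τ

theorem repOfMat_injective {F G : Type*} [Field F] [Group G] {d : ℕ}
    (τ : G →* Matrix (Fin d) (Fin d) F) (hτ : Function.Injective τ) :
    Function.Injective (repOfMat τ) := by
  intro a b hab
  apply hτ
  exact (Matrix.toLinAlgEquiv' : Matrix (Fin d) (Fin d) F ≃ₐ[F] Module.End F (Fin d → F)).injective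
    hab

/-- in characteristic `p`, `(a - 1)^p = a^p - 1` in any `F`-algebra -/
theorem sub_one_pow_char {F A : Type*} [Field F] [Ring A] [Algebra F A] {p : ℕ} [Fact p.Prime]
    [CharP F p] (a : A) : (a - 1) ^ p = a ^ p - 1 := by
  have h : ((X : F[X]) - 1) ^ p = X ^ p - 1 := by
    rw [sub_pow_char, one_pow]
  have h2 := congrArg (Polynomial.aeval a) h
  simpa using h2

/-- a nilpotent endomorphism of a finite-dimensional space dies at the dimension -/
theorem pow_finrank_eq_zero_of_isNilpotent {F V : Type*} [Field F] [AddCommGroup V] [Module F V]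
    [FiniteDimensional F V] {φ : Module.End F V} (h : IsNilpotent φ) :
    φ ^ (Module.finrank F V) = 0 := by
  have h1 := LinearMap.aeval_self_charpoly φ
  rw [h.charpoly_eq_X_pow_finrank] at h1
  simpa using h1

/-- **Stage 1 of Theorem B.** -/
theorem stage1 {G : Type u} [Group G] [Finite G] {p : ℕ} (hp : p.Prime) (hp5 : 5 ≤ p)
    (P : Sylow p G) (hP : Nat.card P = p) (x : G) (hx : x ∈ (P : Subgroup G)) (hx1 : x ≠ 1)
    (hNab : ∀ a b : G, a ∈ Subgroup.normalizer ((P : Subgroup G) : Set G) →
      b ∈ Subgroup.normalizer ((P : Subgroup G) : Set G) → a * b * a⁻¹ * b⁻¹ ∈ (P : Subgroup G))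
    {F : Type*} [Field F] [IsAlgClosed F] [CharP F p]
    {d : ℕ} (hd : 2 * d + 1 ≤ p) (τ : G →* Matrix (Fin d) (Fin d) F)
    (hτ : Function.Injective τ) :
    ∃ (W : Submodule F (Fin d → F)) (hW : Stable (repOfMat τ) W),
      2 ≤ Module.finrank F W ∧ Module.finrank F W ≤ d ∧
      (subRep _ W hW x - 1) ^ (Module.finrank F W) = 0 ∧
      (subRep _ W hW x - 1) ^ (Module.finrank F W - 1) ≠ 0 := by
  have : Fact p.Prime := ⟨hp⟩
  set ρ : Representation F G (Fin d → F) := repOfMat τ with hρ
  set D : Module.End F (Fin d → F) := ρ x - 1 with hDdef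
  have hρx : ρ x ≠ 1 := by
    intro h
    apply hx1
    apply repOfMat_injective τ hτ
    rw [← hρ, h, map_one]
  have hxp : x ^ p = 1 := by
    have h1 : (⟨x, hx⟩ : (P : Subgroup G)) ^ p = 1 := by
      have := pow_card_eq_one' (G := ↥(P : Subgroup G)) (x := ⟨x, hx⟩)
      rwa [hP] at this
    exact congrArg Subtype.val h1
  have hDp : D ^ p = 0 := by
    rw [hDdef, sub_one_pow_char (F := F), ← map_pow, hxp, map_one, sub_self]
  -- the summand
  obtain ⟨v0, hv0⟩ : ∃ v, ρ x v ≠ v := by
    by_contra hall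
    push Not at hall
    exact hρx (LinearMap.ext hall)
  obtain ⟨W, W', hW, hW', hdis, hsup, hWind, ⟨v, hvW, hv⟩⟩ :=
    exists_indecSub_summand ρ (fun X => ∃ v ∈ X, ρ x v ≠ v)
      (by
        rintro ⟨v, hv, hne⟩
        rw [Submodule.mem_bot] at hv
        rw [hv, map_zero] at hne
        exact hne rfl)
      (by
        rintro A B hA hB hAB ⟨v, hv, hne⟩
        by_contra hcon
        push Not at hcon
        obtain ⟨a, ha, b, hb, rfl⟩ := Submodule.mem_sup.mp hv
        apply hne
        rw [map_add]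
        rw [hcon.1 a ha, hcon.2 b hb])
      ⊤ (stable_top ρ) ⟨v0, Submodule.mem_top, hv0⟩
  have hWD : W.map D ≤ W := by
    rintro _ ⟨w, hw, rfl⟩
    rw [hDdef, LinearMap.sub_apply]
    exact W.sub_mem (hW x w hw) hw
  have hwd : Module.finrank F W ≤ d := by
    have := Submodule.finrank_le W
    rwa [Module.finrank_fin_fun] at this
  -- nilpotency on `W`
  have hnilW : IsNilpotent (subRep ρ W hW x - 1) := by
    refine ⟨p, ?_⟩
    rw [subRep_sub_one_pow_eq_zero_iff]
    intro w _
    rw [← hDdef, hDp]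
    rfl
  have hnilW' := pow_finrank_eq_zero_of_isNilpotent hnilW
  have hnilp : ∀ w ∈ W, ((ρ x - 1) ^ (p - 1)) w = 0 := by
    rw [← subRep_sub_one_pow_eq_zero_iff ρ W hW x (p - 1)]
    have : p - 1 = Module.finrank F W + (p - 1 - Module.finrank F W) := by omega
    rw [this, pow_add, hnilW', zero_mul]
  have hker : Module.finrank F ↥(LinearMap.ker D ⊓ W) = 1 :=
    gu P hP x hx hx1 hNab ρ W hW hWind hnilp
  obtain ⟨hranks, -⟩ := Cfsg.Agent.Lib.Helper73.S4504.single_block D W hWD ⟨p, by rw [hDp]; exact Submodule.map_zero W⟩ hker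
  -- `2 ≤ dim W`
  have hw2 : 2 ≤ Module.finrank F W := by
    have h1 := hranks 1
    rw [pow_one] at h1
    have h2 : W.map D ≠ ⊥ := by
      intro hbot
      have : D v ∈ W.map D := Submodule.mem_map_of_mem hvW
      rw [hbot, Submodule.mem_bot, hDdef, LinearMap.sub_apply] at this
      apply hv
      rw [Module.End.one_apply] at this
      exact sub_eq_zero.mp this
    have h3 : 0 < Module.finrank F ↥(W.map D) := by
      apply Nat.pos_of_ne_zero
      intro h0
      exact h2 (Submodule.finrank_eq_zero.mp h0)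
    omega
  refine ⟨W, hW, hw2, hwd, hnilW', ?_⟩
  intro hzero
  rw [subRep_sub_one_pow_eq_zero_iff] at hzero
  have h1 := hranks (Module.finrank F W - 1)
  have h2 : W.map (D ^ (Module.finrank F W - 1)) = ⊥ := by
    rw [eq_bot_iff]
    rintro _ ⟨w, hw, rfl⟩
    rw [Submodule.mem_bot]
    exact hzero w hw
  rw [h2, finrank_bot] at h1
  omega

end Cfsg.Agent.Lib.Helper79.ModP
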