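import Mathlib
import Cfsg.Agent.Lib.Helper79.ModP.Defs
import Cfsg.Agent.Lib.Helper79.ModP.Bridge
import Cfsg.Agent.Lib.Helper79.ModP.Split
import Cfsg.Agent.Lib.Helper79.ModP.GU
import Cfsg.Agent.Lib.Helper73.S4504.Jordan
import Cfsg.Agent.Lib.Helper73.S4504.B3Add
import Cfsg.Agent.Lib.Helper73.S4504.TrForm
import Cfsg.Agent.Lib.Helper15.S4504.Sl2Mat
import Cfsg.Agent.Lib.Helper50.S4504.BForm

/-!
# S4504, Theorem B, stage 2: the three-dimensional summand of `End W` (helper79)
-/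

set_option autoImplicit false

namespace Cfsg.Agent.Lib.Helper79.ModP


universe u

section Aux

variable {F G V : Type*} [Field F] [Group G] [AddCommGroup V] [Module F V]

theorem map_sub_one_le_of_stable {ρ : Representation F G V} {X : Submodule F V} (hX : Stable ρ X)
    (x : G) : X.map (ρ x - 1) ≤ X := by
  rintro _ ⟨v, hv, rfl⟩
  rw [LinearMap.sub_apply]
  exact X.sub_mem (hX x v hv) hv

theorem map_le_of_stable {ρ : Representation F G V} {X : Submodule F V} (hX : Stable ρ X)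
    (x : G) : X.map (ρ x) ≤ X := by
  rintro _ ⟨v, hv, rfl⟩
  exact hX x v hv

theorem b3_bot (D : Module.End F V) : b3 D ⊥ = 0 := by
  unfold b3
  rw [Submodule.map_bot, Submodule.map_bot, inf_bot_eq, finrank_bot]

end Aux

/-- **Stage 2 of Theorem B.** -/
theorem stage2 {G : Type u} [Group G] [Finite G] {p : ℕ} (hp : p.Prime) (hp5 : 5 ≤ p)
    (P : Sylow p G) (hP : Nat.card P = p) (x : G) (hx : x ∈ (P : Subgroup G)) (hx1 : x ≠ 1)
    (hNab : ∀ a b : G, a ∈ Subgroup.normalizer ((P : Subgroup G) : Set G) →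
      b ∈ Subgroup.normalizer ((P : Subgroup G) : Set G) → a * b * a⁻¹ * b⁻¹ ∈ (P : Subgroup G))
    {F : Type*} [Field F] [IsAlgClosed F] [CharP F p]
    {W : Type*} [AddCommGroup W] [Module F W] [FiniteDimensional F W]
    (ρW : Representation F G W)
    (hw2 : 2 ≤ Module.finrank F W) (hwp : 2 * Module.finrank F W + 1 ≤ p)
    (hnil : (ρW x - 1) ^ (Module.finrank F W) = 0)
    (hsingle : (ρW x - 1) ^ (Module.finrank F W - 1) ≠ 0) :
    ∃ (T : Submodule F (W →ₗ[F] W)) (hT : Stable (Representation.linHom ρW ρW) T)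
      (κ : LinearMap.BilinForm F T),
      Module.finrank F T = 3 ∧ κ.IsSymm ∧ κ.Nondegenerate ∧
      (∀ (g : G) (a b : T), κ (subRep _ T hT g a) (subRep _ T hT g b) = κ a b) ∧
      subRep _ T hT x ≠ 1 := by
  have : Fact p.Prime := ⟨hp⟩
  set ρE : Representation F G (Module.End F W) := Representation.linHom ρW ρW with hρE
  set D : Module.End F (Module.End F W) := ρE x - 1 with hDdef
  have huu' : ρW x * ρW x⁻¹ = 1 := by rw [← map_mul, mul_inv_cancel, map_one]
  have hu'u : ρW x⁻¹ * ρW x = 1 := by rw [← map_mul, inv_mul_cancel, map_one]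
  have hρEapp : ∀ (g : G) (A : Module.End F W), ρE g A = ρW g * A * ρW g⁻¹ := by
    intro g A
    rw [hρE, Representation.linHom_apply]
    rfl
  have hD : ∀ A : Module.End F W, D A = ρW x * A * ρW x⁻¹ - A := by
    intro A
    rw [hDdef, LinearMap.sub_apply, hρEapp]
    rfl
  obtain ⟨hb3, hDnil⟩ := Cfsg.Agent.Lib.Helper15.S4504.b3_conj hp5 (ρW x) (ρW x⁻¹) huu' hu'u hnil hsingle hw2 (by omega) D hD
  -- the summand
  obtain ⟨T, T', hT, hT', hdis, hsup, hTind, hΦT⟩ :=
    exists_indecSub_summand ρE (fun X => 1 ≤ b3 D X) (by rw [b3_bot]; omega)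
      (by
        intro A B hA hB hAB h
        rw [Cfsg.Agent.Lib.Helper73.S4504.b3_sup D A B (map_sub_one_le_of_stable hA x) (map_sub_one_le_of_stable hB x) hAB] at h
        omega)
      ⊤ (stable_top ρE) (by rw [hb3])
  have hDp : D ^ (p - 1) = 0 := by
    have : p - 1 = (2 * Module.finrank F W - 1) + (p - 1 - (2 * Module.finrank F W - 1)) := by omega
    rw [this, pow_add, hDnil, zero_mul]
  have hker : Module.finrank F ↥(LinearMap.ker D ⊓ T) = 1 :=
    gu P hP x hx hx1 hNab ρE T hT hTind (fun v _ => by rw [hDp]; rfl)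
  have hTD : T.map D ≤ T := map_sub_one_le_of_stable hT x
  have hT'D : T'.map D ≤ T' := map_sub_one_le_of_stable hT' x
  have hnilT : ∃ k : ℕ, T.map (D ^ k) = ⊥ := ⟨2 * Module.finrank F W - 1, by
    rw [hDnil]
    exact Submodule.map_zero T⟩
  obtain ⟨hranks, hb3T⟩ := Cfsg.Agent.Lib.Helper73.S4504.single_block D T hTD hnilT hker
  have hdimT : Module.finrank F ↥T = 3 := by
    by_contra hne
    rw [if_neg hne] at hb3T
    omega
  rw [if_pos hdimT] at hb3T
  have hb3T' : b3 D T' = 0 := by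
    have := Cfsg.Agent.Lib.Helper73.S4504.b3_sup D T T' hTD hT'D hdis
    rw [hsup, hb3, hb3T] at this
    omega
  -- the form
  obtain ⟨κ, hκs, hκn, hκ⟩ := Cfsg.Agent.Lib.Helper73.S4504.trace_form (F := F) (W := W)
  have hgg' : ρE x * ρE x⁻¹ = 1 := by rw [← map_mul, mul_inv_cancel, map_one]
  have hg'g : ρE x⁻¹ * ρE x = 1 := by rw [← map_mul, inv_mul_cancel, map_one]
  have hinvE : ∀ (g : G) (A B : Module.End F W), κ (ρE g A) (ρE g B) = κ A B := by
    intro g A B
    rw [hκ, hκ, hρEapp, hρEapp]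
    have h1 : ρW g * A * ρW g⁻¹ * (ρW g * B * ρW g⁻¹) = ρW g * (A * B * ρW g⁻¹) := by
      have h2 : ρW g⁻¹ * ρW g = 1 := by rw [← map_mul, inv_mul_cancel, map_one]
      calc ρW g * A * ρW g⁻¹ * (ρW g * B * ρW g⁻¹)
          = ρW g * A * (ρW g⁻¹ * ρW g) * B * ρW g⁻¹ := by noncomm_ring
        _ = ρW g * (A * B * ρW g⁻¹) := by rw [h2]; noncomm_ring
    rw [h1, LinearMap.trace_mul_comm, mul_assoc, ← map_mul, inv_mul_cancel, map_one, mul_one]
  have hrad := Cfsg.Agent.Lib.Helper50.S4504.form_nondeg κ hκs hκn (ρE x) (ρE x⁻¹) hgg' hg'g (hinvE x) T T'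
    (map_le_of_stable hT x) (map_le_of_stable hT' x)
    ⟨hdis, codisjoint_iff.mpr hsup⟩ hdimT hker hnilT hb3T'
  refine ⟨T, hT, κ.restrict T, hdimT, hκs.restrict T, ?_, ?_, ?_⟩
  · have hsep : (κ.restrict T).SeparatingLeft := by
      intro a ha
      have := hrad (a : Module.End F W) a.2 (fun b hb => ha ⟨b, hb⟩)
      exact Subtype.ext this
    refine ⟨hsep, ?_⟩
    intro a ha
    apply hsep
    intro b
    rw [(hκs.restrict T).eq]
    exact ha b
  · intro g a b
    exact hinvE g a b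
  · intro h
    -- `x` acts trivially on `T`, so `ker D ⊓ T = T` has dimension 3
    have h1 : LinearMap.ker D ⊓ T = T := by
      apply inf_eq_right.mpr
      intro a ha
      rw [LinearMap.mem_ker, hDdef, LinearMap.sub_apply]
      have h2 := congrArg (fun f : Module.End F T => ((f ⟨a, ha⟩ : T) : Module.End F W)) h
      simp only [subRep_apply_coe] at h2
      rw [h2]
      simp
    rw [h1] at hker
    omega

end Cfsg.Agent.Lib.Helper79.ModP
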