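import Mathlib
import Cfsg.Prelude.Def_Classical
import Cfsg.Agent.Lib.Helper79.ModP.Defs
import Cfsg.Agent.Lib.Helper45.S4504.O3Std
import Cfsg.Agent.Lib.Helper45.S4504.O3Desc
import Cfsg.Agent.Lib.Helper45.S4504.BDickson
import Cfsg.Agent.Lib.Helper51.S4504.O3Psl

/-!
# S4504, Theorem B, stage 3: from a three-dimensional orthogonal representation to `PSL₂(p)`
(helper79)
-/

set_option autoImplicit false

namespace Cfsg.Agent.Lib.Helper79.ModP

open Matrix

universe u

local notation "I3" => Unit ⊕ (Fin 1 ⊕ Fin 1)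

section MatrixRep

variable {F G T : Type*} [Field F] [Group G] [AddCommGroup T] [Module F T]

/-- the matrix representation attached to a basis -/
noncomputable def matHom (ρ : Representation F G T) (b : Module.Basis I3 F T) :
    G →* Matrix.GeneralLinearGroup I3 F :=
  (((LinearMap.toMatrixAlgEquiv b : Module.End F T ≃ₐ[F] Matrix I3 I3 F) :
    Module.End F T →* Matrix I3 I3 F).comp ρ).toHomUnits

theorem matHom_coe (ρ : Representation F G T) (b : Module.Basis I3 F T) (g : G) :
    ((matHom ρ b g : Matrix.GeneralLinearGroup I3 F) : Matrix I3 I3 F) =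
      LinearMap.toMatrix b b (ρ g) := rfl

theorem matHom_mulVec_repr (ρ : Representation F G T) (b : Module.Basis I3 F T) (g : G) (v : T) :
    ((matHom ρ b g : Matrix.GeneralLinearGroup I3 F) : Matrix I3 I3 F) *ᵥ (fun i => b.repr v i) =
      fun i => b.repr (ρ g v) i := by
  rw [matHom_coe]
  exact LinearMap.toMatrix_mulVec_repr b b (ρ g) v

theorem matHom_eq_one_iff (ρ : Representation F G T) (b : Module.Basis I3 F T) (g : G) :
    matHom ρ b g = 1 ↔ ρ g = 1 := by
  constructor
  · intro h
    have h1 : LinearMap.toMatrix b b (ρ g) = 1 := by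
      rw [← matHom_coe, h]
      rfl
    have h2 : LinearMap.toMatrix b b (ρ g) = LinearMap.toMatrix b b (1 : Module.End F T) := by
      rw [h1]
      exact (LinearMap.toMatrix_one b).symm
    exact (LinearMap.toMatrix b b).injective h2
  · intro h
    apply Units.ext
    rw [matHom_coe, h]
    exact LinearMap.toMatrix_one b

end MatrixRep

section Descent

theorem quadFormOdd_map {K F : Type*} [Field K] [Field F] (j : K →+* F) (c : I3 → K) :
    j (Cfsg.quadFormOdd 1 K c) = Cfsg.quadFormOdd 1 F (fun i => j (c i)) := by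
  simp [Cfsg.quadFormOdd, map_add, map_pow, map_mul]

/-- membership in the isometry group descends to a subfield -/
theorem mem_isometryGroup_of_subfield {F : Type*} [Field F] (K : Subfield F)
    (A : Matrix.GeneralLinearGroup I3 K) (B : Matrix.GeneralLinearGroup I3 F)
    (hAB : ∀ i j : I3, ((A : Matrix I3 I3 K) i j : F) = (B : Matrix I3 I3 F) i j)
    (hB : ∀ c : I3 → F, Cfsg.quadFormOdd 1 F ((B : Matrix I3 I3 F) *ᵥ c) = Cfsg.quadFormOdd 1 F c) :
    A ∈ Cfsg.isometryGroup K (Cfsg.quadFormOdd 1 K) := by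
  intro u v
  show Cfsg.quadFormOdd 1 K ((A : Matrix I3 I3 K) *ᵥ u) = Cfsg.quadFormOdd 1 K u
  apply K.subtype_injective
  rw [quadFormOdd_map, quadFormOdd_map, ← hB (fun i => K.subtype (u i))]
  congr 1
  ext i
  have h1 := RingHom.map_mulVec K.subtype (A : Matrix I3 I3 K) u i
  rw [h1]
  congr 2
  ext a b
  exact hAB a b

end Descent

section GroupLemmas

variable {G : Type*} [Group G]

theorem orderOf_eq_of_mem_sylow_prime [Finite G] {p : ℕ} [Fact p.Prime] (P : Sylow p G)
    (hP : Nat.card P = p) {y : G} (hy : y ∈ (P : Subgroup G)) (hy1 : y ≠ 1) : orderOf y = p := by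
  have h1 : orderOf (⟨y, hy⟩ : (P : Subgroup G)) ∣ p := by
    have := orderOf_dvd_natCard (⟨y, hy⟩ : (P : Subgroup G))
    rwa [hP] at this
  have h2 : orderOf (⟨y, hy⟩ : (P : Subgroup G)) = orderOf y := Subgroup.orderOf_mk y hy
  rw [h2] at h1
  rcases (Nat.dvd_prime Fact.out).mp h1 with h | h
  · exact absurd (orderOf_eq_one_iff.mp h) hy1
  · exact h

theorem closure_orderOf_eq_top [Finite G] {p : ℕ} [Fact p.Prime] (P : Sylow p G)
    (hP : Nat.card P = p)
    (hgen : Subgroup.normalClosure ((P : Subgroup G) : Set G) = ⊤) :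
    Subgroup.closure {y : G | orderOf y = p} = ⊤ := by
  rw [eq_top_iff, ← hgen]
  unfold Subgroup.normalClosure
  rw [Subgroup.closure_le]
  intro z hz
  rw [Group.mem_conjugatesOfSet_iff] at hz
  obtain ⟨y, hy, hyz⟩ := hz
  rw [isConj_iff] at hyz
  obtain ⟨c, rfl⟩ := hyz
  by_cases hy1 : y = 1
  · subst hy1
    simp
  · apply Subgroup.subset_closure
    show orderOf (c * y * c⁻¹) = p
    have hsc : SemiconjBy c y (c * y * c⁻¹) := by
      unfold SemiconjBy
      group
    rw [← hsc.orderOf_eq]
    exact orderOf_eq_of_mem_sylow_prime P hP hy hy1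

/-- the image of a group generated by elements of order `p` is generated by its elements of order
`p` -/
theorem closure_range_orderOf {H : Type*} [Group H] {p : ℕ} [Fact p.Prime] (φ : G →* H)
    (hgen : Subgroup.closure {y : G | orderOf y = p} = ⊤) :
    Subgroup.closure {y : H | y ∈ φ.range ∧ orderOf y = p} = φ.range := by
  apply le_antisymm
  · rw [Subgroup.closure_le]
    intro y hy
    exact hy.1
  · have key : Subgroup.closure {y : G | orderOf y = p} ≤
        (Subgroup.closure {y : H | y ∈ φ.range ∧ orderOf y = p}).comap φ := by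
      rw [Subgroup.closure_le]
      intro y hy
      show φ y ∈ Subgroup.closure {y : H | y ∈ φ.range ∧ orderOf y = p}
      have h1 : orderOf (φ y) ∣ p := by
        have : orderOf y = p := hy
        rw [← this]
        exact orderOf_map_dvd φ y
      rcases (Nat.dvd_prime Fact.out).mp h1 with h | h
      · rw [orderOf_eq_one_iff.mp h]
        exact Subgroup.one_mem _
      · exact Subgroup.subset_closure ⟨⟨y, rfl⟩, h⟩
    rintro _ ⟨y, rfl⟩
    exact key (hgen ▸ Subgroup.mem_top y)

end GroupLemmas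

section Main

local notation "PSL2p" p => Matrix.ProjectiveSpecialLinearGroup (Fin 2) (ZMod p)

/-- **Stage 3 of Theorem B.** -/
theorem stage3 {G : Type u} [Group G] [Finite G] {p : ℕ} (hp : p.Prime) (hp5 : 5 ≤ p)
    (P : Sylow p G) (hP : Nat.card P = p)
    (hgen : Subgroup.normalClosure ((P : Subgroup G) : Set G) = ⊤)
    (hidx : ∀ K : Subgroup G, K.Normal → K.index ≠ p)
    {F : Type*} [Field F] [IsAlgClosed F] [CharP F p]
    (halg : ∀ a : F, ∃ n : ℕ, 0 < n ∧ a ^ (p ^ n) = a)
    {T : Type*} [AddCommGroup T] [Module F T] (hdim : Module.finrank F T = 3)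
    (ρ : Representation F G T) (κ : LinearMap.BilinForm F T) (hκs : κ.IsSymm)
    (hκn : κ.Nondegenerate) (hinv : ∀ (g : G) (a b : T), κ (ρ g a) (ρ g b) = κ a b)
    (x : G) (hx : x ∈ (P : Subgroup G)) (hρx : ρ x ≠ 1) :
    ∃ (K : Subgroup G) (_ : K.Normal), ¬ p ∣ Nat.card K ∧ Nonempty (G ⧸ K ≃* PSL2p p) := by
  have : Fact p.Prime := ⟨hp⟩
  have h2 : (2 : F) ≠ 0 := by
    intro h
    have h3 : ((2 : ℕ) : F) = 0 := by exact_mod_cast h
    have := (CharP.cast_eq_zero_iff F p 2).mp h3
    have := Nat.le_of_dvd (by norm_num) this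
    omega
  have hx1 : x ≠ 1 := by
    rintro rfl
    exact hρx (map_one ρ)
  obtain ⟨b, hb⟩ := Cfsg.Agent.Lib.Helper45.S4504.exists_std_basis h2 hdim κ hκs hκn
  -- the matrix representation preserves the form
  have hiso : ∀ (g : G) (c : I3 → F),
      Cfsg.quadFormOdd 1 F (((matHom ρ b g : Matrix.GeneralLinearGroup I3 F) : Matrix I3 I3 F) *ᵥ c)
        = Cfsg.quadFormOdd 1 F c := by
    intro g c
    obtain ⟨v, rfl⟩ : ∃ v : T, (fun i => b.repr v i) = c :=
      ⟨b.equivFun.symm c, by
        ext i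
        have := congrFun (b.equivFun.apply_symm_apply c) i
        rwa [Module.Basis.equivFun_apply] at this⟩
    rw [matHom_mulVec_repr, ← hb, ← hb, hinv]
  obtain ⟨K, hKfin, Φ', hΦ'⟩ := Cfsg.Agent.Lib.Helper45.S4504.exists_finite_descent halg (matHom ρ b)
  have : Fintype K := Fintype.ofFinite K
  have : CharP K p := RingHom.charP K.subtype K.subtype_injective p
  let Φ'' : G →* Cfsg.isometryGroup K (Cfsg.quadFormOdd 1 K) :=
    Φ'.codRestrict _ (fun g => mem_isometryGroup_of_subfield K (Φ' g) (matHom ρ b g) (hΦ' g)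
      (hiso g))
  have hgen' := closure_orderOf_eq_top P hP hgen
  obtain ⟨φ, hφ⟩ := Cfsg.Agent.Lib.Helper51.S4504.exists_psl_of_isometry hp5 Φ'' hgen'
  -- `φ x ≠ 1`
  have hφx : φ x ≠ 1 := by
    intro h
    have h1 : x ∈ Φ''.ker := hφ ▸ (MonoidHom.mem_ker.mpr h)
    have h3 : Φ' x = 1 := by
      have := MonoidHom.mem_ker.mp h1
      exact congrArg Subtype.val this
    apply hρx
    rw [← matHom_eq_one_iff ρ b]
    apply Units.ext
    ext i j
    rw [← hΦ' x i j, h3]
    simp only [Units.val_one]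
    by_cases hij : i = j
    · subst hij
      simp
    · simp [hij]
  have hordx : orderOf x = p := orderOf_eq_of_mem_sylow_prime P hP hx hx1
  have hordφx : orderOf (φ x) = p := by
    have h1 : orderOf (φ x) ∣ p := hordx ▸ orderOf_map_dvd φ x
    rcases (Nat.dvd_prime hp).mp h1 with h | h
    · exact absurd (orderOf_eq_one_iff.mp h) hφx
    · exact h
  -- cardinalities
  have hcard : Nat.card G = Nat.card φ.ker * Nat.card φ.range := by
    rw [Subgroup.card_eq_card_quotient_mul_card_subgroup φ.ker,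
      Nat.card_congr (QuotientGroup.quotientKerEquivRange φ).toEquiv, mul_comm]
  have hsqG : ¬ p ^ 2 ∣ Nat.card G := by
    intro h
    have h1 := P.card_eq_multiplicity
    rw [hP] at h1
    have h2 : 2 ≤ (Nat.card G).factorization p :=
      (hp.pow_dvd_iff_le_factorization Nat.card_pos.ne').mp h
    have h3 : p ^ 1 < p ^ (Nat.card G).factorization p :=
      Nat.pow_lt_pow_right hp.one_lt (by omega)
    rw [pow_one] at h3
    omega
  have hdivH : p ∣ Nat.card φ.range := by
    have h1 : orderOf (⟨φ x, x, rfl⟩ : φ.range) = p := by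
      rw [← hordφx]
      exact Subgroup.orderOf_mk _ _
    rw [← h1]
    exact orderOf_dvd_natCard _
  have hsqH : ¬ p ^ 2 ∣ Nat.card φ.range := by
    intro h
    apply hsqG
    rw [hcard]
    exact Dvd.dvd.mul_left h _
  have hidxH : ∀ N : Subgroup φ.range, N.Normal → N.index ≠ p := by
    intro N hN hNidx
    apply hidx (N.comap φ.rangeRestrict) inferInstance
    rw [Subgroup.index_comap_of_surjective N φ.rangeRestrict_surjective]
    exact hNidx
  obtain ⟨e⟩ := Cfsg.Agent.Lib.Helper45.S4504.dickson_p hp5 φ.range (closure_range_orderOf φ hgen') hdivH hsqH hidxH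
  refine ⟨φ.ker, inferInstance, ?_, ⟨(QuotientGroup.quotientKerEquivRange φ).trans e⟩⟩
  intro hdvd
  apply hsqG
  rw [hcard, pow_two]
  exact Nat.mul_dvd_mul hdvd hdivH

end Main

end Cfsg.Agent.Lib.Helper79.ModP
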