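import Mathlib
import Cfsg.Agent.Lib.Helper79.ModP.Stage1
import Cfsg.Agent.Lib.Helper79.ModP.Stage2
import Cfsg.Agent.Lib.Helper79.ModP.Stage3

/-!
# S4504, Theorem B (helper79)

A finite group `G = ⟨P^G⟩` with a Sylow `p`-subgroup `P` of order `p ≥ 5`, `N_G(P)/P` abelian, no
normal subgroup of index `p`, and a faithful representation of degree `d ≤ (p-1)/2` over an
algebraically closed field of characteristic `p` (algebraic over the prime field) has a normal
`p'`-subgroup `K` with `G/K ≃ PSL₂(p)`.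
-/

set_option autoImplicit false

namespace Cfsg.Agent.Lib.Helper79.ModP

universe u

local notation "PSL2p" p => Matrix.ProjectiveSpecialLinearGroup (Fin 2) (ZMod p)

/-- stages 2 and 3 for an abstract `W` -/
theorem stage23 {G : Type u} [Group G] [Finite G] {p : ℕ} (hp : p.Prime) (hp5 : 5 ≤ p)
    (P : Sylow p G) (hP : Nat.card P = p)
    (hgen : Subgroup.normalClosure ((P : Subgroup G) : Set G) = ⊤)
    (hNab : ∀ a b : G, a ∈ Subgroup.normalizer ((P : Subgroup G) : Set G) →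
      b ∈ Subgroup.normalizer ((P : Subgroup G) : Set G) → a * b * a⁻¹ * b⁻¹ ∈ (P : Subgroup G))
    (hidx : ∀ K : Subgroup G, K.Normal → K.index ≠ p)
    (x : G) (hx : x ∈ (P : Subgroup G)) (hx1 : x ≠ 1)
    {F : Type*} [Field F] [IsAlgClosed F] [CharP F p]
    (halg : ∀ a : F, ∃ n : ℕ, 0 < n ∧ a ^ (p ^ n) = a)
    {W : Type*} [AddCommGroup W] [Module F W] [FiniteDimensional F W]
    (ρW : Representation F G W)
    (hw2 : 2 ≤ Module.finrank F W) (hwp : 2 * Module.finrank F W + 1 ≤ p)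
    (hnil : (ρW x - 1) ^ (Module.finrank F W) = 0)
    (hsingle : (ρW x - 1) ^ (Module.finrank F W - 1) ≠ 0) :
    ∃ (K : Subgroup G) (_ : K.Normal), ¬ p ∣ Nat.card K ∧ Nonempty (G ⧸ K ≃* PSL2p p) := by
  obtain ⟨T, hT, κ, hdimT, hκs, hκn, hinv, hρx⟩ :=
    stage2 hp hp5 P hP x hx hx1 hNab ρW hw2 hwp hnil hsingle
  exact stage3 hp hp5 P hP hgen hidx halg hdimT _ κ hκs hκn hinv x hx hρx

/-- **Theorem B.** -/
theorem theoremB {G : Type u} [Group G] [Finite G] {p : ℕ} (hp : p.Prime) (hp5 : 5 ≤ p)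
    (P : Sylow p G) (hP : Nat.card P = p)
    (hgen : Subgroup.normalClosure ((P : Subgroup G) : Set G) = ⊤)
    (hNab : ∀ a b : G, a ∈ Subgroup.normalizer ((P : Subgroup G) : Set G) →
      b ∈ Subgroup.normalizer ((P : Subgroup G) : Set G) → a * b * a⁻¹ * b⁻¹ ∈ (P : Subgroup G))
    (hidx : ∀ K : Subgroup G, K.Normal → K.index ≠ p)
    {F : Type} [Field F] [IsAlgClosed F] [CharP F p]
    (halg : ∀ a : F, ∃ n : ℕ, 0 < n ∧ a ^ (p ^ n) = a)
    {d : ℕ} (hd : 2 * d + 1 ≤ p) (τ : G →* Matrix (Fin d) (Fin d) F)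
    (hτ : Function.Injective τ) :
    ∃ (K : Subgroup G) (_ : K.Normal), ¬ p ∣ Nat.card K ∧ Nonempty (G ⧸ K ≃* PSL2p p) := by
  -- a generator of `P`
  obtain ⟨x, hx, hx1⟩ : ∃ x : G, x ∈ (P : Subgroup G) ∧ x ≠ 1 := by
    have h1 : 1 < Nat.card (P : Subgroup G) := by rw [hP]; exact hp.one_lt
    have hnt : Nontrivial (P : Subgroup G) := Finite.one_lt_card_iff_nontrivial.mp h1
    obtain ⟨y, hy⟩ := exists_ne (1 : (P : Subgroup G))
    exact ⟨y, y.2, fun h => hy (Subtype.ext h)⟩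
  obtain ⟨W, hW, hw2, hwd, hnil, hsingle⟩ := stage1 hp hp5 P hP x hx hx1 hNab hd τ hτ
  exact stage23 hp hp5 P hP hgen hNab hidx x hx hx1 halg (subRep (repOfMat τ) W hW) hw2
    (by omega) hnil hsingle

end Cfsg.Agent.Lib.Helper79.ModP
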